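import Groth.Agent.L22.Reg.PnGen
import Groth.Agent.L22.Reg.Seq
import Groth.Agent.L21.RR.PointPow
import Groth.Agent.L21.RR.VeryAmple
import Groth.Agent.L21.RR.Mul
import Groth.Agent.L21.RR.Twist
import Groth.Agent.L02.Quot.GG
import Groth.Agent.L18.KernelTensorGG
import Groth.Agent.L04.KSh.Div.Twisted

/-!
# Multiplying an ideal sheaf by the ideal of a rational point costs one step of regularity
-/

set_option autoImplicit false
set_option backward.isDefEq.respectTransparency false
set_option backward.isDefEq.respectTransparency.types false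
set_option linter.style.haveILetI false

universe u

open CategoryTheory CategoryTheory.Limits AlgebraicGeometry TopologicalSpace Opposite IsLocalRing TensorProduct

noncomputable section

namespace Groth.L04.FatPoints

open Groth.L21.RR (st st_comp e0 e0_hmap e0_smul germ_ext one)
open Groth.L22.Reg (Regular tw' O')
open Groth.L16.CohLinear (hmap)
open Groth.L04.KSh (inclMap inclMap_ι mul_ideal_le)

attribute [local instance] Curv2.resAlgebra

section General

theorem surjective_st_of_epi {X : Scheme.{u}} {A B : X.Modules} (f : A ⟶ B) [Epi f] (y : X) :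
    Function.Surjective (st f y) := fun v => (Groth.L21.Mod.epi_iff_stalk_surjective f).1 inferInstance y v

variable (k : Type u) [Field k] [IsAlgClosed k] {X : Scheme.{u}} [X.Over (Spec (CommRingCat.of k))]
  [IsProper (X ↘ Spec (CommRingCat.of k))]

include k in
/-- Global sections of a globally generated module surject onto those of a quotient killed by the
maximal ideal of a closed point and vanishing elsewhere. -/
theorem surjective_hmap_of_point {G Q : X.Modules} (hG : Curv2.IsGloballyGenerated G) (g : G ⟶ Q) [Epi g]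
    {x : X} (hx : IsClosed ({x} : Set X)) (hQ : ∀ y, y ≠ x → Subsingleton (Q.presheaf.stalk y))
    (hm : ∀ a ∈ maximalIdeal (X.presheaf.stalk x), ∀ v : Q.presheaf.stalk x, a • v = 0) :
    Function.Surjective (hmap g 0) := by
  intro q
  let γ : Γ(G, ⊤) → Q.presheaf.stalk x := fun t => Q.presheaf.germ ⊤ x trivial (g.app ⊤ t)
  have hres : ∀ a : X.presheaf.stalk x, ∃ c : k, a - Curv2.stalkMap k X x c ∈ maximalIdeal (X.presheaf.stalk x) := by
    intro a
    haveI := Groth.L21.Disc.finite_residueField_of_isClosed k hx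
    obtain ⟨c, hc⟩ := (IsAlgClosed.algebraMap_bijective_of_isIntegral (k := k) (K := X.residueField x)).2
      (X.residue x a)
    refine ⟨c, (IsLocalRing.residue_eq_zero_iff _).1 ?_⟩
    rw [map_sub, sub_eq_zero]
    exact hc.symm
  have hspan : ∀ v : Q.presheaf.stalk x, ∃ t : Γ(G, ⊤), γ t = v := by
    intro v
    obtain ⟨w, rfl⟩ := surjective_st_of_epi g x v
    have hw := (Groth.L02.Quot.span_germ_top_of_gg hG x).ge (Submodule.mem_top (x := w))
    induction hw using Submodule.span_induction with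
    | mem z hz =>
      obtain ⟨t, rfl⟩ := hz
      exact ⟨t, (Groth.L21.RR.st_germ g (show x ∈ (⊤ : X.Opens) from trivial) t).symm⟩
    | zero => exact ⟨0, by simp [γ]⟩
    | add z z' _ _ h h' =>
      obtain ⟨t, ht⟩ := h
      obtain ⟨t', ht'⟩ := h'
      exact ⟨t + t', by rw [map_add, ← ht, ← ht']; simp [γ]⟩
    | smul a z _ h =>
      obtain ⟨t, ht⟩ := h
      obtain ⟨c, hc⟩ := hres a
      refine ⟨(show Γ(X, ⊤) from Coh.toGlobal (X ↘ Spec (CommRingCat.of k)) c) • t, ?_⟩
      have h1 : γ ((show Γ(X, ⊤) from Coh.toGlobal (X ↘ Spec (CommRingCat.of k)) c) • t) =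
          Curv2.stalkMap k X x c • γ t := by
        simp only [γ]
        rw [Scheme.Modules.Hom.app_smul, Groth.L20.ModStalk.germ_smul]
        rfl
      rw [h1, ht]
      show _ = st g x (a • z)
      rw [map_smul]
      have h2 := hm _ hc (st g x z)
      rw [sub_smul, sub_eq_zero] at h2
      exact h2.symm
  obtain ⟨t, ht⟩ := hspan (Q.presheaf.germ ⊤ x trivial (e0 Q q))
  refine ⟨(e0 G).symm t, (e0 Q).injective (germ_ext fun y _ => ?_)⟩
  rw [e0_hmap, AddEquiv.apply_symm_apply]
  rcases eq_or_ne y x with rfl | hy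
  · exact ht
  · haveI := hQ y hy
    exact Subsingleton.elim _ _

end General

variable {X : Scheme.{u}}

theorem mono_inclMap {I J : X.IdealSheafData} (h : ∀ V : X.affineOpens, J.ideal V ≤ I.ideal V) :
    Mono (inclMap h) := by
  haveI : Mono (ClSub.idealModι J) := inferInstanceAs (Mono (kernel.ι _))
  haveI : Mono (inclMap h ≫ ClSub.idealModι I) := by rw [inclMap_ι]; infer_instance
  exact mono_of_mono _ (ClSub.idealModι I)

/-- An inclusion of ideal modules is surjective on stalks where the ideals agree. -/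
theorem surjective_st_inclMap {I J : X.IdealSheafData} (h : ∀ V : X.affineOpens, J.ideal V ≤ I.ideal V)
    {y : X} {V : X.Opens} (hV : IsAffineOpen V) (hy : y ∈ V)
    (heq : (I.ideal ⟨V, hV⟩).map (X.presheaf.germ V y hy).hom ≤ (J.ideal ⟨V, hV⟩).map (X.presheaf.germ V y hy).hom) :
    Function.Surjective (st (inclMap h) y) := by
  intro v
  obtain ⟨r, hr, hrv⟩ := (Groth.L21.RR.range_st_idealModι I hV hy _).1 ⟨v, rfl⟩
  obtain ⟨w, hw⟩ := (Groth.L21.RR.range_st_idealModι J hV hy _).2 ⟨r, heq hr, rfl⟩
  haveI : Mono (ClSub.idealModι I) := inferInstanceAs (Mono (kernel.ι _))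
  refine ⟨w, (Groth.L21.Mod.mono_iff_stalk_injective (ClSub.idealModι I)).1 inferInstance y ?_⟩
  show st _ y _ = st _ y v
  rw [← st_comp, inclMap_ι, hw, hrv]

theorem subsingleton_stalk_cokernel {A B : X.Modules} (f : A ⟶ B) {y : X} (h : Function.Surjective (st f y)) :
    Subsingleton ((cokernel f).presheaf.stalk y) := by
  refine subsingleton_of_forall_eq 0 fun v => ?_
  obtain ⟨w, rfl⟩ := surjective_st_of_epi (cokernel.π f) y v
  obtain ⟨u, rfl⟩ := h w
  show st (cokernel.π f) y (st f y u) = 0
  rw [← st_comp, cokernel.condition, st, Functor.map_zero]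
  rfl

theorem map_vanishingIdeal_ne {P : X} (hP : IsClosed ({P} : Set X)) {y : X} (hy : y ≠ P) {V : X.Opens}
    (hV : IsAffineOpen V) (hyV : y ∈ V) :
    ((Scheme.IdealSheafData.vanishingIdeal ⟨{P}, hP⟩).ideal ⟨V, hV⟩).map (X.presheaf.germ V y hyV).hom = ⊤ := by
  have h := Groth.L21.RR.surjective_st_idealModι_pow_of_ne hP 1 hy
  rw [pow_one] at h
  obtain ⟨u, hu⟩ := h (one X y)
  obtain ⟨r, hr, hr'⟩ := (Groth.L21.RR.range_st_idealModι _ hV hyV _).1 ⟨u, hu⟩
  have h1 : r = 1 := (Groth.L21.RR.bijective_smul_one (X := X) y).1 (hr'.trans (one_smul _ _).symm)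
  exact (Ideal.eq_top_iff_one _).2 (h1 ▸ hr)

section Proj

variable {k : Type u} [Field k] {n : ℕ}

local notation "P" => CohB1.ProjSpace n k

/-- The tensor factor does not enlarge the stalks. -/
theorem tw_stalk_killed {Q : (P).Modules} (d : ℤ) (y : P) {a : (P).presheaf.stalk y}
    (h : ∀ v : Q.presheaf.stalk y, a • v = 0) :
    ∀ v : (tw' Q d).presheaf.stalk y, a • v = 0 := by
  intro v
  obtain ⟨z, hz⟩ := (Groth.L18.KernelTensorGG.stk Q (O' n k d) y).surjective v
  have h0 : a • z = 0 := by
    clear hz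
    induction z using TensorProduct.induction_on with
    | zero => exact smul_zero _
    | tmul q l => rw [TensorProduct.smul_tmul', show a • q = 0 from h q, TensorProduct.zero_tmul]
    | add z z' hz hz' => rw [smul_add, hz, hz', add_zero]
  rw [← hz]
  exact ((map_smul (Groth.L18.KernelTensorGG.stk Q (O' n k d) y) a z).symm.trans (by rw [h0, map_zero]))

theorem tw_stalk_subsingleton {Q : (P).Modules} (d : ℤ) (y : P) (h : Subsingleton (Q.presheaf.stalk y)) :
    Subsingleton ((tw' Q d).presheaf.stalk y) :=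
  subsingleton_of_forall_eq 0 fun v =>
    (one_smul ((P).presheaf.stalk y) v).symm.trans (tw_stalk_killed d y (fun q => Subsingleton.elim _ _) v)

/-- A module vanishing outside a point has support of dimension at most zero. -/
theorem support_dim_le_zero {Q : (P).Modules} {S : Set (P)} (hS : S.Finite)
    (hcl : ∀ s ∈ S, IsClosed ({s} : Set (P))) (hQ : ∀ y ∉ S, Subsingleton (Q.presheaf.stalk y)) :
    topologicalKrullDim (CohB1.support Q) ≤ 0 := by
  haveI : Finite (CohB1.support Q) := (hS.subset fun y hy => by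
    by_contra hyS
    exact hy (hQ y hyS)).to_subtype
  haveI : T1Space (CohB1.support Q) := ⟨fun y => by
    have hyS : y.1 ∈ S := by
      by_contra hyS
      exact y.2 (hQ y.1 hyS)
    have := (hcl y.1 hyS).preimage (continuous_subtype_val (p := fun z => z ∈ CohB1.support Q))
    convert this using 1
    ext z
    exact Subtype.ext_iff⟩
  exact topologicalKrullDim_zero_of_discreteTopology _

theorem regular_point_mul [IsAlgClosed k] (J : (P).IdealSheafData) {x : P} (hx : IsClosed ({x} : Set (P))) {d : ℤ}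
    (h : Regular (ClSub.idealMod J) d) :
    Regular (ClSub.idealMod (J * Scheme.IdealSheafData.vanishingIdeal ⟨{x}, hx⟩)) (d + 1) := by
  haveI : IsProper (P ↘ Spec (CommRingCat.of k)) := inferInstanceAs (IsProper (CohB1.ProjSpace.toSpec n k))
  haveI : IsLocallyNoetherian (P) := inferInstance
  set Px := Scheme.IdealSheafData.vanishingIdeal (⟨{x}, hx⟩ : Closeds (P))
  let φ := inclMap (mul_ideal_le J Px)
  haveI := mono_inclMap (mul_ideal_le J Px)
  have hJ := Groth.L21.RR.isCoh_idealMod J
  have hJP := Groth.L21.RR.isCoh_idealMod (J * Px)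
  have hC := (Groth.L16.CohKernel.isCoh_kernel_cokernel hJP hJ φ).2
  have hmul : ∀ (y : P) (V : (P).Opens) (hV : IsAffineOpen V) (hy : y ∈ V),
      ((J * Px).ideal ⟨V, hV⟩).map ((P).presheaf.germ V y hy).hom =
        (J.ideal ⟨V, hV⟩).map ((P).presheaf.germ V y hy).hom * (Px.ideal ⟨V, hV⟩).map ((P).presheaf.germ V y hy).hom := by
    intro y V hV hy
    rw [Scheme.IdealSheafData.ideal_mul, Pi.mul_apply, Ideal.map_mul]
  have hQ : ∀ y, y ≠ x → Subsingleton ((cokernel φ).presheaf.stalk y) := fun y hy => by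
    obtain ⟨V, hV, hyV, -⟩ := exists_isAffineOpen_mem_and_subset (x := y) (U := (⊤ : (P).Opens)) trivial
    refine subsingleton_stalk_cokernel φ (surjective_st_inclMap (mul_ideal_le J Px) hV hyV ?_)
    rw [hmul, map_vanishingIdeal_ne hx hy hV hyV, Ideal.mul_top]
  have hm : ∀ a ∈ maximalIdeal ((P).presheaf.stalk x), ∀ v : (cokernel φ).presheaf.stalk x, a • v = 0 := by
    intro a ha v
    obtain ⟨w, rfl⟩ := surjective_st_of_epi (cokernel.π φ) x v
    obtain ⟨V, hV, hxV, -⟩ := exists_isAffineOpen_mem_and_subset (x := x) (U := (⊤ : (P).Opens)) trivial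
    obtain ⟨r, hr, hrw⟩ := (Groth.L21.RR.range_st_idealModι J hV hxV _).1 ⟨w, rfl⟩
    obtain ⟨u, hu⟩ := (Groth.L21.RR.range_st_idealModι (J * Px) hV hxV _).2 ⟨a * r, by
      rw [hmul, Groth.L21.RR.map_vanishingIdeal_point hx hV hxV, mul_comm a r]
      exact Ideal.mul_mem_mul hr ha, rfl⟩
    haveI : Mono (ClSub.idealModι J) := inferInstanceAs (Mono (kernel.ι _))
    have huw : st φ x u = a • w := by
      refine (Groth.L21.Mod.mono_iff_stalk_injective (ClSub.idealModι J)).1 inferInstance x ?_
      show st _ x _ = st _ x _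
      rw [← st_comp, inclMap_ι, hu, map_smul, ← hrw, mul_smul]
    show a • st (cokernel.π φ) x w = 0
    rw [← map_smul, ← huw, ← st_comp, cokernel.condition, st, Functor.map_zero]
    rfl
  have hdim : topologicalKrullDim (CohB1.support (cokernel φ)) ≤ 0 :=
    support_dim_le_zero (Set.finite_singleton x) (fun s hs => by rw [Set.mem_singleton_iff.1 hs]; exact hx)
      fun y hy => hQ y hy
  have hS : (ShortComplex.mk φ (cokernel.π φ) (cokernel.condition φ)).ShortExact :=
    { exact := ShortComplex.exact_cokernel φ }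
  intro q hq
  have hS' := Groth.L22.Reg.shortExact_tw hS (d + 1 - q)
  have hmid : Subsingleton (Coh.HH (P) (tw' (ClSub.idealMod J) (d + 1 - q)) q) := h.subsingleton hq (by omega)
  obtain ⟨q, rfl⟩ : ∃ q', q = q' + 1 := ⟨q - 1, by omega⟩
  rcases Nat.eq_zero_or_pos q with rfl | hq'
  · have hsurj : Function.Surjective (hmap ((Groth.L00.Tensor.tensorRightF (O' n k (d + 1 - ((0 + 1 : ℕ) : ℤ)))).map
        (cokernel.π φ)) 0) := by
      haveI := hS'.epi_g
      haveI : Epi ((Groth.L00.Tensor.tensorRightF (O' n k (d + 1 - ((0 + 1 : ℕ) : ℤ)))).map (cokernel.π φ)) := hS'.epi_g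
      exact surjective_hmap_of_point k (h.isGloballyGenerated hJ (by simp)) _ hx
        (fun y hy => tw_stalk_subsingleton _ y (hQ y hy)) fun a ha => tw_stalk_killed _ x (hm a ha)
    refine subsingleton_of_forall_eq 0 fun z => ?_
    obtain ⟨w, rfl⟩ := (Groth.L16.CohLinear.exact_delta_hmap hS' 0 z).1 (@Subsingleton.elim _ hmid _ _)
    obtain ⟨v, rfl⟩ := hsurj w
    exact (Groth.L16.CohLinear.exact_hmap_delta hS' 0 _).2 ⟨v, rfl⟩
  · exact Groth.L22.Reg.subsingleton_of_exact (Groth.L16.CohLinear.exact_delta_hmap hS' q)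
      (Groth.L22.Reg.subsingleton_tw_of_support_le_zero hC hdim _ hq') hmid (map_zero _)

theorem regular_top : Regular (ClSub.idealMod (⊤ : (P).IdealSheafData)) 0 := by
  haveI : Mono (ClSub.idealModι (⊤ : (P).IdealSheafData)) := inferInstanceAs (Mono (kernel.ι _))
  haveI : Epi (ClSub.idealModι (⊤ : (P).IdealSheafData)) := by
    rw [Groth.L21.Mod.epi_iff_stalk_surjective]
    intro y v
    obtain ⟨V, hV, hyV, -⟩ := exists_isAffineOpen_mem_and_subset (x := y) (U := (⊤ : (P).Opens)) trivial
    obtain ⟨r, rfl⟩ := (Groth.L21.RR.bijective_smul_one (X := P) y).2 v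
    obtain ⟨u, hu⟩ := (Groth.L21.RR.range_st_idealModι (⊤ : (P).IdealSheafData) hV hyV _).2
      ⟨r, by simp [Ideal.map_top], rfl⟩
    exact ⟨u, hu⟩
  haveI : IsIso (ClSub.idealModι (⊤ : (P).IdealSheafData)) := isIso_of_mono_of_epi _
  obtain ⟨e⟩ := Groth.L22.Reg.nonempty_O_zero n k
  refine Groth.L22.Reg.regular_iso (e ≪≫ (asIso (ClSub.idealModι (⊤ : (P).IdealSheafData))).symm) ?_
  intro q hq
  obtain ⟨e'⟩ := Groth.L22.Reg.nonempty_O_add (n := n) (R := k) (show (0 : ℤ) + (0 - q) = 0 - q by omega)
  exact Groth.L22.Reg.subsingleton_iso e'.symm q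
    (Groth.L16.ProjSpace.subsingleton_HH_twist n k _ q (by omega) (by omega))

/-- A finite product of powers of ideals of closed points. -/
def prodPoints {t : ℕ} (p : Fin t → P) (hp : ∀ j, IsClosed ({p j} : Set (P))) : (P).IdealSheafData :=
  ∏ j, Scheme.IdealSheafData.vanishingIdeal ⟨{p j}, hp j⟩

theorem regular_prodPoints [IsAlgClosed k] : ∀ {t : ℕ} (p : Fin t → P) (hp : ∀ j, IsClosed ({p j} : Set (P))),
    Regular (ClSub.idealMod (prodPoints p hp)) (t : ℤ)
  | 0, p, hp => by
    have : prodPoints p hp = ⊤ := by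
      ext V : 2
      simp [prodPoints]
    rw [this]
    exact regular_top
  | t + 1, p, hp => by
    have e : prodPoints p hp = prodPoints (fun j => p j.castSucc) (fun j => hp _) *
        Scheme.IdealSheafData.vanishingIdeal ⟨{p (Fin.last t)}, hp _⟩ := Fin.prod_univ_castSucc _
    rw [e]
    push_cast
    exact regular_point_mul _ _ (regular_prodPoints _ _)

end Proj

end Groth.L04.FatPoints
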